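/-
Sheaves killed by an integer, and their embeddings into sheaves killed by the same integer without higher direct
images.
-/
import Groth.Agent.EtBcQLib.Et
import Groth.Agent.CdOneLib.Divisible
import Groth.Agent.ConsEffaceLib.Main
import Groth.Prelude.Def_EtBase

set_option autoImplicit false
set_option linter.all false
set_option backward.isDefEq.respectTransparency false
set_option backward.isDefEq.respectTransparency.types false
set_option synthInstance.maxHeartbeats 400000
set_option maxHeartbeats 1000000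

universe u

open CategoryTheory CategoryTheory.Limits AlgebraicGeometry Opposite CategoryTheory.Abelian

noncomputable section

namespace EtBcKilledLib

attribute [local instance] EtSliceLib.pullExact

variable {X : Scheme.{u}} {n : ℕ}

theorem killed_iff (F : EtCoh.Ab X) : EtCoh.KilledBy n F ↔ n • 𝟙 F = 0 := by
  refine ⟨fun h => ?_, fun h U s => ?_⟩
  · ext U s
    exact (EtTransferLib.nsmul_id_app F n U.unop s).trans (h U.unop s)
  · rw [← EtTransferLib.nsmul_id_app, h]
    rfl

theorem killed_obj {Y : Scheme.{u}} (T : EtCoh.Ab X ⥤ EtCoh.Ab Y) [T.Additive] {F : EtCoh.Ab X}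
    (hF : EtCoh.KilledBy n F) : EtCoh.KilledBy n (T.obj F) := by
  rw [killed_iff] at hF ⊢
  rw [← T.map_id, ← T.map_nsmul, hF, T.map_zero]

theorem killed_of_mono {F G : EtCoh.Ab X} (ι : F ⟶ G) [Mono ι] (hG : EtCoh.KilledBy n G) : EtCoh.KilledBy n F := by
  rw [killed_iff] at hG ⊢
  rw [← cancel_mono ι, Preadditive.nsmul_comp, Category.id_comp, zero_comp, ← Category.comp_id ι,
    ← Preadditive.comp_nsmul, hG, comp_zero]

theorem killed_of_epi {F G : EtCoh.Ab X} (p : F ⟶ G) [Epi p] (hF : EtCoh.KilledBy n F) : EtCoh.KilledBy n G := by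
  rw [killed_iff] at hF ⊢
  rw [← cancel_epi p, Preadditive.comp_nsmul, Category.comp_id, comp_zero, ← Category.id_comp p,
    ← Preadditive.nsmul_comp, hF, zero_comp]

theorem killed_cokernel {F G : EtCoh.Ab X} (u : F ⟶ G) (hG : EtCoh.KilledBy n G) : EtCoh.KilledBy n (cokernel u) :=
  killed_of_epi (cokernel.π u) hG

/-- The part killed by `n` of a sheaf, as a short complex. -/
abbrev seq (I : EtCoh.Ab X) (n : ℕ) : ShortComplex (EtCoh.Ab X) :=
  ShortComplex.mk (kernel.ι (n • 𝟙 I)) (n • 𝟙 I) (kernel.condition _)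

theorem seq_shortExact (I : EtCoh.Ab X) [Injective I] (hn : 0 < n) : (seq I n).ShortExact :=
  { exact := ShortComplex.exact_of_f_is_kernel _ (kernelIsKernel _)
    mono_f := inferInstanceAs (Mono (kernel.ι (n • 𝟙 I)))
    epi_g := CdOneLib.epi_nsmul_injective I hn }

theorem killed_kernel (I : EtCoh.Ab X) (n : ℕ) : EtCoh.KilledBy n (kernel (n • 𝟙 I)) := by
  rw [killed_iff, ← cancel_mono (kernel.ι (n • 𝟙 I)), Preadditive.nsmul_comp, Category.id_comp, zero_comp]
  have h := kernel.condition (n • 𝟙 I)
  rwa [Preadditive.comp_nsmul, Category.comp_id] at h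

theorem isZero_Rpush_kernel (I : EtCoh.Ab X) [Injective I] (hn : 0 < n) {S : Scheme.{u}} (g : X ⟶ S) (q : ℕ) :
    IsZero ((EtCoh.Rpush g (q + 1)).obj (kernel (n • 𝟙 I))) := by
  let T := EtCechInjLib.derDelta (EtCoh.push g)
  have hS := seq_shortExact I hn
  have hI : ∀ i, IsZero ((T.F (i + 1)).obj I) := fun i =>
    Functor.isZero_rightDerived_obj_injective_succ (EtCoh.push g) i I
  have he : Epi (T.δ hS q) := T.epi_δ hS q (hI q)
  have hz : T.δ hS q = 0 := by
    cases q with
    | zero =>
      haveI : Injective ((EtCoh.push g).obj I) := (EtCoh.push g).injective_obj I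
      haveI := CdOneLib.epi_nsmul_injective ((EtCoh.push g).obj I) hn
      haveI : IsIso ((EtCoh.push g).toRightDerivedZero.app I) := inferInstance
      haveI : Epi ((T.F 0).map (seq I n).g) := by
        have e : (EtCoh.push g).toRightDerivedZero.app I ≫ ((EtCoh.push g).rightDerived 0).map (n • 𝟙 I) =
            (n • 𝟙 ((EtCoh.push g).obj I)) ≫ (EtCoh.push g).toRightDerivedZero.app I := by
          rw [← NatTrans.naturality, Functor.map_nsmul, CategoryTheory.Functor.map_id]
        haveI : Epi ((EtCoh.push g).toRightDerivedZero.app I ≫ ((EtCoh.push g).rightDerived 0).map (n • 𝟙 I)) := by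
          rw [e]
          infer_instance
        exact @epi_of_epi _ _ _ _ _ ((EtCoh.push g).toRightDerivedZero.app I) _ this
      exact (cancel_epi ((T.F 0).map (seq I n).g)).1 ((T.map_comp_δ hS 0).trans comp_zero.symm)
    | succ q => exact (hI q).eq_of_src _ _
  rw [IsZero.iff_id_eq_zero, ← cancel_epi (T.δ hS q), hz, zero_comp]
  exact zero_comp.symm

/-- A sheaf killed by `n` embeds into one without higher direct images. -/
theorem exists_embed (F : EtCoh.Ab X) (hF : EtCoh.KilledBy n F) :
    ∃ (G : EtCoh.Ab X) (u : F ⟶ G), Mono u ∧ EtCoh.KilledBy n G ∧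
      ∀ {S : Scheme.{u}} (g : X ⟶ S) (q : ℕ), IsZero ((EtCoh.Rpush g (q + 1)).obj G) := by
  rcases Nat.eq_zero_or_pos n with rfl | hn
  · exact ⟨Injective.under F, Injective.ι F, inferInstance, fun U s => zero_smul ℕ s,
      fun g q => Functor.isZero_rightDerived_obj_injective_succ (EtCoh.push g) q _⟩
  · let u : F ⟶ kernel (n • 𝟙 (Injective.under F)) := kernel.lift _ (Injective.ι F) (by
      rw [Preadditive.comp_nsmul, Category.comp_id, ← Category.id_comp (Injective.ι F), ← Preadditive.nsmul_comp,
        (killed_iff F).1 hF, zero_comp])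
    exact ⟨_, u, mono_of_mono_fac (kernel.lift_ι _ _ _), killed_kernel _ n,
      fun g q => isZero_Rpush_kernel _ hn g q⟩

theorem subsingleton_H_kernel (I : EtCoh.Ab X) [Injective I] (hn : 0 < n) (q : ℕ) :
    Subsingleton (EtCoh.H X (kernel (n • 𝟙 I)) (q + 1)) :=
  Groth.Agent.ConsEffaceLib.subsingleton_ext_killed n hn (Groth.Agent.ConsEffaceLib.mono_nsmul_constZ n hn) q

/-- A sheaf killed by `n` embeds into one without higher cohomology and higher direct images. -/
theorem exists_embed' (hn : 0 < n) (F : EtCoh.Ab X) (hF : EtCoh.KilledBy n F) :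
    ∃ (G : EtCoh.Ab X) (u : F ⟶ G), Mono u ∧ EtCoh.KilledBy n G ∧
      (∀ {S : Scheme.{u}} (g : X ⟶ S) (q : ℕ), IsZero ((EtCoh.Rpush g (q + 1)).obj G)) ∧
      ∀ q : ℕ, Subsingleton (EtCoh.H X G (q + 1)) := by
  let u : F ⟶ kernel (n • 𝟙 (Injective.under F)) := kernel.lift _ (Injective.ι F) (by
    rw [Preadditive.comp_nsmul, Category.comp_id, ← Category.id_comp (Injective.ι F), ← Preadditive.nsmul_comp,
      (killed_iff F).1 hF, zero_comp])
  exact ⟨_, u, mono_of_mono_fac (kernel.lift_ι _ _ _), killed_kernel _ n,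
    fun g q => isZero_Rpush_kernel _ hn g q, subsingleton_H_kernel _ hn⟩

end EtBcKilledLib
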