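/-
Base change in degree zero for the composite of two squares placed side by side.
-/
import Groth.Agent.EtBcQLib.Tower

set_option autoImplicit false
set_option linter.all false
set_option backward.isDefEq.respectTransparency false
set_option backward.isDefEq.respectTransparency.types false
set_option synthInstance.maxHeartbeats 400000
set_option maxHeartbeats 1600000

universe u

open CategoryTheory CategoryTheory.Limits AlgebraicGeometry Opposite
open Groth.Agent.EtShLib EtBcQLib

noncomputable section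

namespace EtBcKilledLib

attribute [local instance] EtSliceLib.pullExact

variable {X S T Y T' Y' : Scheme.{u}} (g : T ⟶ S) (f : X ⟶ S) (h : Y ⟶ X) (e : Y ⟶ T) (c : IsPullback e h g f)
  (π : T' ⟶ T) (π' : Y' ⟶ Y) (e' : Y' ⟶ T') (c' : IsPullback e' π' π e)
  (gg : T' ⟶ S) (wg : π ≫ g = gg) (hh : Y' ⟶ X) (wh : π' ≫ h = hh) (c'' : IsPullback e' hh gg f)

include c c' c'' wg wh in
/-- The base change morphism of the composite square, in degree zero. -/
theorem bc0_horiz (M : EtCoh.Ab T') :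
    (EtCoh.pull f).map ((DescSecLib.etPc π g gg wg).app M) ≫
        EtCoh.baseChange0 g f h e c.w ((EtCoh.push π).obj M) ≫
          (EtCoh.push h).map (EtCoh.baseChange0 π e π' e' c'.w M) =
      EtCoh.baseChange0 gg f hh e' c''.w M ≫
        (DescSecLib.etPc π' h hh wh).app ((EtCoh.pull e').obj M) := by
  apply ((EtCoh.pullPushAdj f).homEquiv _ _).injective
  rw [Adjunction.homEquiv_unit, Adjunction.homEquiv_unit]
  refine Sheaf.hom_ext (NatTrans.ext (funext fun V' => ?_))
  ext t
  obtain ⟨V⟩ := V'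
  let pT := (DescSecLib.etPc π g gg wg).app M
  let φ := EtCoh.baseChange0 g f h e c.w ((EtCoh.push π).obj M)
  let ψ := EtCoh.baseChange0 π e π' e' c'.w M
  let t1 : ToType (((EtCoh.push g).obj ((EtCoh.push π).obj M)).obj.obj (op V)) :=
    M.obj.map (DescSecLib.bcCompHom π g gg wg V).op t
  have h1 : ((EtCoh.pull f).map pT).hom.app (op ((EtCoh.bc f).obj V))
      (((EtCoh.pullPushAdj f).unit.app ((EtCoh.push gg).obj M)).hom.app (op V) t) =
      ((EtCoh.pullPushAdj f).unit.app ((EtCoh.push g).obj ((EtCoh.push π).obj M))).hom.app (op V) t1 :=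
    (congrArg (fun z : (EtCoh.push gg).obj M ⟶ _ => z.hom.app (op V) t)
      ((EtCoh.pullPushAdj f).unit.naturality pT)).symm
  have h2 := unit_bc0' g f h e c ((EtCoh.push π).obj M) V t1
  show ψ.hom.app (op ((EtCoh.bc h).obj ((EtCoh.bc f).obj V)))
      (φ.hom.app (op ((EtCoh.bc f).obj V)) (((EtCoh.pull f).map pT).hom.app (op ((EtCoh.bc f).obj V))
        (((EtCoh.pullPushAdj f).unit.app ((EtCoh.push gg).obj M)).hom.app (op V) t))) =
    ((EtCoh.pull e').obj M).obj.map (DescSecLib.bcCompHom π' h hh wh ((EtCoh.bc f).obj V)).op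
      ((EtCoh.baseChange0 gg f hh e' c''.w M).hom.app (op ((EtCoh.bc f).obj V))
        (((EtCoh.pullPushAdj f).unit.app ((EtCoh.push gg).obj M)).hom.app (op V) t))
  refine ((congrArg (fun z => ψ.hom.app (op ((EtCoh.bc h).obj ((EtCoh.bc f).obj V)))
    (φ.hom.app (op ((EtCoh.bc f).obj V)) z)) h1).trans
      ((congrArg (fun z => ψ.hom.app (op ((EtCoh.bc h).obj ((EtCoh.bc f).obj V))) z) h2).trans ?_))
  refine Eq.trans ?_ (congrArg _ (unit_bc0' gg f hh e' c'' M V t).symm)
  refine (NatTrans.naturality_apply ψ.hom (sqHom c V).op _).trans ?_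
  refine (congrArg _ (unit_bc0' π e π' e' c' M ((EtCoh.bc g).obj V) t1)).trans ?_
  refine (congrArg (fun z => ((EtCoh.pull e').obj M).obj.map ((EtCoh.bc π').map (sqHom c V)).op
    (((EtCoh.pull e').obj M).obj.map (sqHom c' ((EtCoh.bc g).obj V)).op z))
      (NatTrans.naturality_apply ((EtCoh.pullPushAdj e').unit.app M).hom
        (DescSecLib.bcCompHom π g gg wg V).op t)).trans ?_
  show ((EtCoh.pull e').obj M).obj.map ((EtCoh.bc π').map (sqHom c V)).op
      (((EtCoh.pull e').obj M).obj.map (sqHom c' ((EtCoh.bc g).obj V)).op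
        (((EtCoh.pull e').obj M).obj.map ((EtCoh.bc e').map (DescSecLib.bcCompHom π g gg wg V)).op _)) = _
  simp only [← ConcreteCategory.comp_apply, ← Functor.map_comp, ← op_comp]
  refine congrArg (fun m => ((EtCoh.pull e').obj M).obj.map (Quiver.Hom.op m)
    (((EtCoh.pullPushAdj e').unit.app M).hom.app (op ((EtCoh.bc gg).obj V)) t))
    (?_ : (EtCoh.bc π').map (sqHom c V) ≫ sqHom c' ((EtCoh.bc g).obj V) ≫
        (EtCoh.bc e').map (DescSecLib.bcCompHom π g gg wg V) =
      DescSecLib.bcCompHom π' h hh wh ((EtCoh.bc f).obj V) ≫ sqHom c'' V)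
  refine DescSecLib.bc_hom_ext e' _ _ ?_
  show (((EtCoh.bc π').map (sqHom c V)).left ≫ sqLeft c' ((EtCoh.bc g).obj V) ≫
      ((EtCoh.bc e').map (DescSecLib.bcCompHom π g gg wg V)).left) ≫ _ =
    ((DescSecLib.bcCompHom π' h hh wh ((EtCoh.bc f).obj V)).left ≫ sqLeft c'' V) ≫ _
  simp only [Category.assoc]
  rw [DescSecLib.bc_map_fst]
  apply pullback.hom_ext
  · simp only [Category.assoc]
    erw [DescSecLib.bcCompHom_fst π g gg wg V, sq_fst_fst c'' V]
    show _ ≫ sqLeft c' _ ≫ bFst e' _ ≫ bFst π _ ≫ bFst g V = _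
    rw [← Category.assoc (bFst e' _), ← Category.assoc (sqLeft c' _), ← Category.assoc (sqLeft c' _),
      sq_fst_fst c' ((EtCoh.bc g).obj V)]
    simp only [Category.assoc]
    erw [reassoc_of% (DescSecLib.bc_map_fst π' (sqHom c V))]
    show bFst π' _ ≫ sqLeft c V ≫ bFst e _ ≫ bFst g V = _
    rw [← Category.assoc (sqLeft c V), sq_fst_fst c V]
    erw [reassoc_of% (DescSecLib.bcCompHom_fst π' h hh wh ((EtCoh.bc f).obj V))]
    rfl
  · simp only [Category.assoc]
    erw [DescSecLib.bcCompHom_snd π g gg wg V, sq_fst_snd c'' V]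
    show _ ≫ sqLeft c' _ ≫ bFst e' _ ≫ bSnd π _ = _
    rw [← Category.assoc (sqLeft c' _), sq_fst_snd c' ((EtCoh.bc g).obj V)]
    erw [reassoc_of% (DescSecLib.bc_map_snd π' (sqHom c V)),
      reassoc_of% (DescSecLib.bcCompHom_snd π' h hh wh ((EtCoh.bc f).obj V))]
    rfl

end EtBcKilledLib
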