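/-
Diagram chases for maps of delta functors commuting with the connecting maps.
-/
import Groth.Agent.EtBcQLib.DeltaHom
import Mathlib.CategoryTheory.Abelian.Refinements

set_option autoImplicit false
set_option linter.all false
set_option backward.isDefEq.respectTransparency false

universe v v' u u'

open CategoryTheory CategoryTheory.Limits

noncomputable section

namespace EtBcKilledLib

open LocCohLib LocCohLib.DeltaFun

variable {C : Type u} [Category.{v} C] [Abelian C] {D : Type u'} [Category.{v'} D] [Abelian D]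
  {T T' : DeltaFun C D} (a : ∀ i, T.F i ⟶ T'.F i) (ha : EtBcQLib.Comm a)
  {S : ShortComplex C} (hS : S.ShortExact)

include ha hS in
/-- Injectivity moves up one degree along an effacing embedding. -/
theorem mono_succ (i : ℕ) (hG : IsZero ((T.F (i + 1)).obj S.X₂)) (h2 : IsIso ((a i).app S.X₂))
    (h3 : Mono ((a i).app S.X₃)) : Mono ((a (i + 1)).app S.X₁) := by
  haveI := T.epi_δ hS i hG
  refine Preadditive.mono_of_cancel_zero _ fun {A} z hz => ?_
  obtain ⟨A₁, π, hπ, y, hy⟩ := surjective_up_to_refinements_of_epi (T.δ hS i) z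
  have h0 : (y ≫ (a i).app S.X₃) ≫ T'.δ hS i = 0 := by
    rw [Category.assoc, ← ha hS i, ← Category.assoc, ← hy, Category.assoc, hz, comp_zero]
  obtain ⟨A₂, π', hπ', w, hw⟩ := (T'.exact₃ hS i).exact_up_to_refinements (y ≫ (a i).app S.X₃) h0
  change π' ≫ y ≫ (a i).app S.X₃ = w ≫ (T'.F i).map S.g at hw
  have h1 : π' ≫ y = (w ≫ inv ((a i).app S.X₂)) ≫ (T.F i).map S.g := by
    rw [← cancel_mono ((a i).app S.X₃), Category.assoc, hw, Category.assoc, Category.assoc,
      (a i).naturality, IsIso.inv_hom_id_assoc]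
  rw [← cancel_epi π, comp_zero, hy, ← cancel_epi π', comp_zero, ← Category.assoc, h1, Category.assoc,
    T.map_comp_δ, comp_zero]

/-- The map of cokernels. -/
abbrev cokerMap (i : ℕ) {M N : C} (ι : M ⟶ N) : cokernel ((a i).app M) ⟶ cokernel ((a i).app N) :=
  cokernel.map _ _ ((T.F i).map ι) ((T'.F i).map ι) ((a i).naturality ι).symm

include ha hS in
/-- The cokernels embed along an embedding. -/
theorem mono_cokerMap (i : ℕ) (he : Epi ((a i).app S.X₃)) (hm : Mono ((a (i + 1)).app S.X₃)) :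
    Mono (cokerMap a (i + 1) S.f) := by
  haveI := T.preservesZero (i + 1)
  haveI := T'.preservesZero (i + 1)
  refine Preadditive.mono_of_cancel_zero _ fun {A} z hz => ?_
  obtain ⟨A₁, π, hπ, y, hy⟩ := surjective_up_to_refinements_of_epi (cokernel.π ((a (i + 1)).app S.X₁)) z
  have h0 : (y ≫ (T'.F (i + 1)).map S.f) ≫ cokernel.π ((a (i + 1)).app S.X₂) = 0 := by
    rw [Category.assoc, show (T'.F (i + 1)).map S.f ≫ cokernel.π ((a (i + 1)).app S.X₂) =
        cokernel.π ((a (i + 1)).app S.X₁) ≫ cokerMap a (i + 1) S.f from (cokernel.π_desc _ _ _).symm,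
      ← Category.assoc, ← hy, Category.assoc, hz, comp_zero]
  obtain ⟨A₂, π', hπ', x, hx⟩ := (ShortComplex.exact_of_g_is_cokernel
    (ShortComplex.mk ((a (i + 1)).app S.X₂) (cokernel.π _) (cokernel.condition _))
    (cokernelIsCokernel _)).exact_up_to_refinements (y ≫ (T'.F (i + 1)).map S.f) h0
  change π' ≫ y ≫ (T'.F (i + 1)).map S.f = x ≫ (a (i + 1)).app S.X₂ at hx
  have h1 : x ≫ (T.F (i + 1)).map S.g = 0 := by
    rw [← cancel_mono ((a (i + 1)).app S.X₃), zero_comp, Category.assoc, (a (i + 1)).naturality,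
      ← Category.assoc, ← hx]
    simp only [Category.assoc]
    rw [← Functor.map_comp, S.zero, Functor.map_zero, comp_zero, comp_zero]
  obtain ⟨A₃, π'', hπ'', x', hx'⟩ := (T.exact₂ hS (i + 1)).exact_up_to_refinements x h1
  change π'' ≫ x = x' ≫ (T.F (i + 1)).map S.f at hx'
  have h2 : (π'' ≫ π' ≫ y - x' ≫ (a (i + 1)).app S.X₁) ≫ (T'.F (i + 1)).map S.f = 0 := by
    rw [Preadditive.sub_comp, Category.assoc, Category.assoc, hx, Category.assoc, ← (a (i + 1)).naturality,
      ← Category.assoc x', ← hx', Category.assoc, sub_self]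
  obtain ⟨A₄, ρ, hρ, w', hw'⟩ := (T'.exact₁ hS i).exact_up_to_refinements _ h2
  change ρ ≫ (π'' ≫ π' ≫ y - x' ≫ (a (i + 1)).app S.X₁) = w' ≫ T'.δ hS i at hw'
  obtain ⟨A₅, ρ', hρ', w, hw⟩ := surjective_up_to_refinements_of_epi ((a i).app S.X₃) w'
  have h3 : ρ' ≫ ρ ≫ π'' ≫ π' ≫ y ≫ cokernel.π ((a (i + 1)).app S.X₁) = 0 := by
    have e := congrArg (fun t => ρ' ≫ t ≫ cokernel.π ((a (i + 1)).app S.X₁)) hw'
    simp only [Preadditive.comp_sub, Preadditive.sub_comp, Category.assoc, cokernel.condition, comp_zero,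
      sub_zero] at e
    rw [e, reassoc_of% hw]
    rw [← Category.assoc ((a i).app S.X₃), ← ha hS i, Category.assoc, cokernel.condition, comp_zero, comp_zero]
  rw [← cancel_epi π, comp_zero, hy]
  simp only [← cancel_epi ρ', ← cancel_epi ρ, ← cancel_epi π'', ← cancel_epi π', comp_zero] at h3 ⊢
  exact h3

end EtBcKilledLib
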