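/-
The base change morphism one degree above the degrees where it is bijective on killed sheaves.
-/
import Groth.Agent.EtBcKilledLib.Killed
import Groth.Agent.EtBcKilledLib.Chase
import Groth.Agent.EtBcQLib.Tower

set_option autoImplicit false
set_option linter.all false
set_option backward.isDefEq.respectTransparency false
set_option backward.isDefEq.respectTransparency.types false
set_option synthInstance.maxHeartbeats 400000
set_option maxHeartbeats 1000000

universe u

open CategoryTheory CategoryTheory.Limits AlgebraicGeometry Opposite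

noncomputable section

namespace EtBcKilledLib

attribute [local instance] EtSliceLib.pullExact

variable {X S T Y : Scheme.{u}} (g : T ⟶ S) (f : X ⟶ S) (h : Y ⟶ X) (e : Y ⟶ T) (w : e ≫ g = h ≫ f)

/-- The source delta functor of base change. -/
abbrev bcSrc : LocCohLib.DeltaFun (EtCoh.Ab T) (EtCoh.Ab X) :=
  FormalPunctLib.compExact (EtCechInjLib.derDelta (EtCoh.push g)) (EtCoh.pull f)

/-- The target delta functor of base change. -/
abbrev bcTgt : LocCohLib.DeltaFun (EtCoh.Ab T) (EtCoh.Ab X) :=
  EtBcQLib.precompDelta (EtCoh.pull e) (fun {_} hT => EtRpushStalkLib.shortExact_pull e hT)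
    (EtCechInjLib.derDelta (EtCoh.push h))

/-- The base change family. -/
abbrev bcFamily (i : ℕ) : (bcSrc g f).F i ⟶ (bcTgt h e).F i := EtBcQLib.bcNat g f h e w i

theorem comm_bcFamily : EtBcQLib.Comm (T := bcSrc g f) (T' := bcTgt h e) (bcFamily g f h e w) :=
  fun {_} hS i => EtBcQLib.bcNat_delta g f h e w hS (EtRpushStalkLib.shortExact_pull e hS) i

theorem mono_bcQ_succ {n i : ℕ}
    (hi : ∀ G : EtCoh.Ab T, EtCoh.KilledBy n G → IsIso (EtBC.bcQ g f h e w i G))
    (F : EtCoh.Ab T) (hF : EtCoh.KilledBy n F) : Mono (EtBC.bcQ g f h e w (i + 1) F) := by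
  obtain ⟨G, u, hu, hG, hz⟩ := exists_embed F hF
  have hS : (ShortComplex.mk u (cokernel.π u) (cokernel.condition u)).ShortExact :=
    { exact := ShortComplex.exact_of_g_is_cokernel _ (cokernelIsCokernel _), mono_f := hu,
      epi_g := inferInstanceAs (Epi (cokernel.π u)) }
  haveI := hi _ (killed_cokernel u hG)
  exact mono_succ (bcFamily g f h e w) (comm_bcFamily g f h e w) hS i
    (Functor.map_isZero (EtCoh.pull f) (hz g i)) (hi G hG) (inferInstanceAs (Mono (EtBC.bcQ g f h e w i (cokernel u))))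

theorem exists_mono_coker {n i : ℕ}
    (hi : ∀ G : EtCoh.Ab T, EtCoh.KilledBy n G → IsIso (EtBC.bcQ g f h e w i G))
    {F G : EtCoh.Ab T} (ι : F ⟶ G) [Mono ι] (hG : EtCoh.KilledBy n G) :
    ∃ φ : cokernel (EtBC.bcQ g f h e w (i + 1) F) ⟶ cokernel (EtBC.bcQ g f h e w (i + 1) G), Mono φ ∧
      cokernel.π (EtBC.bcQ g f h e w (i + 1) F) ≫ φ =
        (EtCoh.Rpush h (i + 1)).map ((EtCoh.pull e).map ι) ≫ cokernel.π (EtBC.bcQ g f h e w (i + 1) G) := by
  have hS : (ShortComplex.mk ι (cokernel.π ι) (cokernel.condition ι)).ShortExact :=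
    { exact := ShortComplex.exact_of_g_is_cokernel _ (cokernelIsCokernel _) }
  haveI := hi _ (killed_cokernel ι hG)
  exact ⟨cokerMap (bcFamily g f h e w) (i + 1) ι,
    mono_cokerMap (bcFamily g f h e w) (comm_bcFamily g f h e w) hS i
      (inferInstanceAs (Epi (EtBC.bcQ g f h e w i (cokernel ι))))
      (mono_bcQ_succ g f h e w hi _ (killed_cokernel ι hG)),
    cokernel.π_desc _ _ _⟩

end EtBcKilledLib
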