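/-
Higher direct images along a composite with an exact direct image, and base change for the composite square.
-/
import Groth.Agent.EtBcKilledLib.Mono
import Groth.Agent.EtBcKilledLib.Horiz
import Groth.Agent.S0655
import Groth.Agent.S6634
import Groth.Agent.S6628
import Groth.Agent.EtSplitLib.Sites

set_option autoImplicit false
set_option linter.all false
set_option backward.isDefEq.respectTransparency false
set_option backward.isDefEq.respectTransparency.types false
set_option synthInstance.maxHeartbeats 400000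
set_option maxHeartbeats 1600000

universe u

open CategoryTheory CategoryTheory.Limits AlgebraicGeometry Opposite

noncomputable section

namespace EtBcKilledLib

attribute [local instance] EtSliceLib.pullExact

/-- Base change in degree zero is natural. -/
theorem bc0_natural {X S T Y : Scheme.{u}} (g : T ⟶ S) (f : X ⟶ S) (h : Y ⟶ X) (e : Y ⟶ T) (w : e ≫ g = h ≫ f)
    {M M' : EtCoh.Ab T} (u : M ⟶ M') :
    (EtCoh.pull f).map ((EtCoh.push g).map u) ≫ EtCoh.baseChange0 g f h e w M' =
      EtCoh.baseChange0 g f h e w M ≫ (EtCoh.push h).map ((EtCoh.pull e).map u) := by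
  dsimp only [EtCoh.baseChange0]
  rw [← Adjunction.homEquiv_naturality_left_symm, ← Adjunction.homEquiv_naturality_right_symm]
  refine congrArg _ ?_
  simp only [Category.assoc]
  rw [← Functor.map_comp_assoc]
  erw [(EtCoh.pullPushAdj e).unit.naturality u]
  rw [Functor.map_comp_assoc]
  erw [(EtCoh.pushComp g e).hom.naturality_assoc ((EtCoh.pull e).map u),
    (EtCoh.pushCongr w).hom.naturality_assoc ((EtCoh.pull e).map u),
    (EtCoh.pushComp f h).inv.naturality ((EtCoh.pull e).map u)]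
  rfl

theorem isIso_etPc {A B C : Scheme.{u}} (a : A ⟶ B) (b : B ⟶ C) (c : A ⟶ C) (w : a ≫ b = c) :
    IsIso (DescSecLib.etPc a b c w) := by
  subst w
  rw [← EtSliceLib.pushComp_inv_eq b a]
  infer_instance

section Comp

variable {S T T' : Scheme.{u}} (g : T ⟶ S) (π : T' ⟶ T) (gg : T' ⟶ S) (wg : π ≫ g = gg)
  (hπ : ∀ {U : ShortComplex (EtCoh.Ab T')}, U.ShortExact → (U.map (EtCoh.push π)).ShortExact)

/-- The higher direct images after an exact direct image. -/
abbrev compDelta : LocCohLib.DeltaFun (EtCoh.Ab T') (EtCoh.Ab S) :=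
  EtBcQLib.precompDelta (EtCoh.push π) hπ (EtCechInjLib.derDelta (EtCoh.push g))

theorem compDelta_effaceable : (compDelta g π hπ).Effaceable := fun E hE i =>
  haveI := hE
  haveI := (EtCoh.push π).injective_obj E
  Functor.isZero_rightDerived_obj_injective_succ (EtCoh.push g) i ((EtCoh.push π).obj E)

theorem derDelta_effaceable {A B : Scheme.{u}} (a : A ⟶ B) :
    (EtCechInjLib.derDelta (EtCoh.push a)).Effaceable := fun E hE i =>
  haveI := hE
  Functor.isZero_rightDerived_obj_injective_succ (EtCoh.push a) i E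

include wg in
/-- The comparison in degree zero. -/
def compZero : (EtCechInjLib.derDelta (EtCoh.push gg)).F 0 ≅ (compDelta g π hπ).F 0 :=
  haveI := isIso_etPc π g gg wg
  (EtCoh.push gg).rightDerivedZeroIsoSelf ≪≫ asIso (DescSecLib.etPc π g gg wg) ≪≫
    Functor.isoWhiskerLeft (EtCoh.push π) (EtCoh.push g).rightDerivedZeroIsoSelf.symm

/-- The comparison in every degree. -/
def compIso (q : ℕ) : (EtCechInjLib.derDelta (EtCoh.push gg)).F q ≅ (compDelta g π hπ).F q :=
  LocCohLib.DeltaFun.isoOfZero (derDelta_effaceable gg) (compDelta_effaceable g π hπ) (compZero g π gg wg hπ) q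

theorem comm_compIso : EtBcQLib.Comm (T := EtCechInjLib.derDelta (EtCoh.push gg)) (T' := compDelta g π hπ)
    (fun q => (compIso g π gg wg hπ q).hom) :=
  EtBcQLib.comm_isoOfZero (derDelta_effaceable gg) (compDelta_effaceable g π hπ) (compZero g π gg wg hπ)

theorem toRDZ_compIso (M : EtCoh.Ab T') :
    (EtCoh.push gg).toRightDerivedZero.app M ≫ (compIso g π gg wg hπ 0).hom.app M =
      (DescSecLib.etPc π g gg wg).app M ≫ (EtCoh.push g).toRightDerivedZero.app ((EtCoh.push π).obj M) := by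
  show _ ≫ (EtCoh.push gg).rightDerivedZeroIsoSelf.hom.app M ≫ (DescSecLib.etPc π g gg wg).app M ≫
    (EtCoh.push g).rightDerivedZeroIsoSelf.inv.app ((EtCoh.push π).obj M) = _
  rw [Functor.rightDerivedZeroIsoSelf_inv_hom_id_app_assoc]
  rfl

end Comp

section Square

variable {X S T Y T' Y' : Scheme.{u}} (g : T ⟶ S) (f : X ⟶ S) (h : Y ⟶ X) (e : Y ⟶ T) (c : IsPullback e h g f)
  (π : T' ⟶ T) (π' : Y' ⟶ Y) (e' : Y' ⟶ T') (c' : IsPullback e' π' π e)
  (gg : T' ⟶ S) (wg : π ≫ g = gg) (hh : Y' ⟶ X) (wh : π' ≫ h = hh) (c'' : IsPullback e' hh gg f)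
  (hπ : ∀ {U : ShortComplex (EtCoh.Ab T')}, U.ShortExact → (U.map (EtCoh.push π)).ShortExact)
  (hπ' : ∀ {U : ShortComplex (EtCoh.Ab Y')}, U.ShortExact → (U.map (EtCoh.push π')).ShortExact)

/-- The source. -/
abbrev outSrc : LocCohLib.DeltaFun (EtCoh.Ab T') (EtCoh.Ab X) :=
  FormalPunctLib.compExact (EtCechInjLib.derDelta (EtCoh.push gg)) (EtCoh.pull f)

/-- The target. -/
abbrev outTgt : LocCohLib.DeltaFun (EtCoh.Ab T') (EtCoh.Ab X) :=
  EtBcQLib.precompDelta (EtCoh.pull e') (fun {_} hT => EtRpushStalkLib.shortExact_pull e' hT)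
    (compDelta h π' hπ')

/-- Through the first square. -/
def innerFam (q : ℕ) : (outSrc f gg).F q ⟶ (outTgt h π' e' hπ').F q where
  app M := (EtCoh.pull f).map ((compIso g π gg wg hπ q).hom.app M) ≫
    EtBC.bcQ g f h e c.w q ((EtCoh.push π).obj M) ≫
      (EtCoh.Rpush h q).map (EtCoh.baseChange0 π e π' e' c'.w M)
  naturality M M' u := by
    show (EtCoh.pull f).map ((EtCoh.Rpush gg q).map u) ≫ _ = _ ≫ _
    rw [← Functor.map_comp_assoc]
    erw [(compIso g π gg wg hπ q).hom.naturality u]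
    rw [Functor.map_comp_assoc]
    erw [reassoc_of% ((EtBcQLib.bcNat g f h e c.w q).naturality ((EtCoh.push π).map u))]
    simp only [Category.assoc]
    refine congrArg (fun z => (EtCoh.pull f).map ((compIso g π gg wg hπ q).hom.app M) ≫
      EtBC.bcQ g f h e c.w q ((EtCoh.push π).obj M) ≫ z) ?_
    show (EtCoh.Rpush h q).map _ ≫ (EtCoh.Rpush h q).map _ = _ ≫ (EtCoh.Rpush h q).map _
    rw [← Functor.map_comp, ← Functor.map_comp]
    exact congrArg _ (bc0_natural π e π' e' c'.w u)

/-- Through the composite square. -/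
def outerFam (q : ℕ) : (outSrc f gg).F q ⟶ (outTgt h π' e' hπ').F q where
  app M := EtBC.bcQ gg f hh e' c''.w q M ≫ (compIso h π' hh wh hπ' q).hom.app ((EtCoh.pull e').obj M)
  naturality M M' u := by
    show (EtCoh.pull f).map ((EtCoh.Rpush gg q).map u) ≫ _ = _ ≫ _
    erw [reassoc_of% ((EtBcQLib.bcNat gg f hh e' c''.w q).naturality u)]
    simp only [Category.assoc]
    exact congrArg (EtBC.bcQ gg f hh e' c''.w q M ≫ ·)
      ((compIso h π' hh wh hπ' q).hom.naturality ((EtCoh.pull e').map u))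

include c c' c'' wg wh in
theorem fam_eq (q : ℕ) :
    innerFam g f h e c π π' e' c' gg wg hπ hπ' q = outerFam f h π' e' gg hh wh c'' hπ' q := by
  refine EtBcQLib.eq_of_zero (T := outSrc f gg) (T' := outTgt h π' e' hπ')
    (FormalPunctLib.compExact_effaceable (derDelta_effaceable gg) _)
    (innerFam g f h e c π π' e' c' gg wg hπ hπ') (outerFam f h π' e' gg hh wh c'' hπ')
    (fun {U} hU n => ?_) (fun {U} hU n => ?_) (NatTrans.ext (funext fun M => ?_)) q
  · have h1 := hπ hU
    have h2 := EtRpushStalkLib.shortExact_pull e h1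
    have h3 := EtRpushStalkLib.shortExact_pull e' hU
    show (EtCoh.pull f).map ((EtCechInjLib.derDelta (EtCoh.push gg)).δ hU n) ≫ _ ≫ _ ≫ _ = (_ ≫ _ ≫ _) ≫ _
    rw [← Functor.map_comp_assoc]
    erw [comm_compIso g π gg wg hπ hU n]
    rw [Functor.map_comp_assoc]
    erw [reassoc_of% (EtBcQLib.bcNat_delta g f h e c.w h1 h2 n)]
    simp only [Category.assoc]
    refine congrArg (fun z => (EtCoh.pull f).map ((compIso g π gg wg hπ n).hom.app U.X₃) ≫
      EtBC.bcQ g f h e c.w n ((EtCoh.push π).obj U.X₃) ≫ z) ?_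
    exact (EtCechInjLib.derDelta (EtCoh.push h)).δ_natural h2 (hπ' h3)
      { τ₁ := EtCoh.baseChange0 π e π' e' c'.w U.X₁
        τ₂ := EtCoh.baseChange0 π e π' e' c'.w U.X₂
        τ₃ := EtCoh.baseChange0 π e π' e' c'.w U.X₃
        comm₁₂ := (bc0_natural π e π' e' c'.w U.f).symm
        comm₂₃ := (bc0_natural π e π' e' c'.w U.g).symm } n
  · have h3 := EtRpushStalkLib.shortExact_pull e' hU
    show (EtCoh.pull f).map ((EtCechInjLib.derDelta (EtCoh.push gg)).δ hU n) ≫ _ ≫ _ = (_ ≫ _) ≫ _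
    erw [reassoc_of% (EtBcQLib.bcNat_delta gg f hh e' c''.w hU h3 n)]
    simp only [Category.assoc]
    exact congrArg (EtBC.bcQ gg f hh e' c''.w n U.X₃ ≫ ·) (comm_compIso h π' hh wh hπ' h3 n)
  · haveI : IsIso ((EtCoh.push gg).toRightDerivedZero.app M) := inferInstance
    refine (cancel_epi ((EtCoh.pull f).map ((EtCoh.push gg).toRightDerivedZero.app M))).1 ?_
    show (EtCoh.pull f).map _ ≫ (EtCoh.pull f).map ((compIso g π gg wg hπ 0).hom.app M) ≫ _ ≫ _ =
      (EtCoh.pull f).map _ ≫ EtBC.bcQ gg f hh e' c''.w 0 M ≫ _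
    rw [← Functor.map_comp_assoc, toRDZ_compIso, Functor.map_comp_assoc,
      reassoc_of% (EtBC.bcQ_zero_compat g f h e c.w ((EtCoh.push π).obj M)),
      reassoc_of% (EtBC.bcQ_zero_compat gg f hh e' c''.w M), toRDZ_compIso h π' hh wh hπ']
    rw [← reassoc_of% (bc0_horiz g f h e c π π' e' c' gg wg hh wh c'' M)]
    refine congrArg (fun z => (EtCoh.pull f).map ((DescSecLib.etPc π g gg wg).app M) ≫
      EtCoh.baseChange0 g f h e c.w ((EtCoh.push π).obj M) ≫ z) ?_
    exact ((EtCoh.push h).toRightDerivedZero.naturality (EtCoh.baseChange0 π e π' e' c'.w M)).symm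

include c c' c'' wg wh hπ hπ' in
/-- Base change for the composite square against the first one. -/
theorem isIso_comp_iff (q : ℕ) (M : EtCoh.Ab T') (h0 : IsIso (EtCoh.baseChange0 π e π' e' c'.w M)) :
    IsIso (EtBC.bcQ g f h e c.w q ((EtCoh.push π).obj M)) ↔ IsIso (EtBC.bcQ gg f hh e' c''.w q M) := by
  have E : (EtCoh.pull f).map ((compIso g π gg wg hπ q).hom.app M) ≫
      EtBC.bcQ g f h e c.w q ((EtCoh.push π).obj M) ≫
        (EtCoh.Rpush h q).map (EtCoh.baseChange0 π e π' e' c'.w M) =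
      EtBC.bcQ gg f hh e' c''.w q M ≫ (compIso h π' hh wh hπ' q).hom.app ((EtCoh.pull e').obj M) :=
    congrArg (fun z : (outSrc f gg).F q ⟶ (outTgt h π' e' hπ').F q => z.app M)
      (fam_eq g f h e c π π' e' c' gg wg hh wh c'' hπ hπ' q)
  haveI := h0
  haveI : IsIso ((compIso g π gg wg hπ q).hom.app M) := inferInstance
  haveI : IsIso ((compIso h π' hh wh hπ' q).hom.app ((EtCoh.pull e').obj M)) := inferInstance
  rw [← isIso_comp_right_iff (EtBC.bcQ g f h e c.w q ((EtCoh.push π).obj M))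
      ((EtCoh.Rpush h q).map (EtCoh.baseChange0 π e π' e' c'.w M)),
    ← isIso_comp_left_iff ((EtCoh.pull f).map ((compIso g π gg wg hπ q).hom.app M)), E]
  exact isIso_comp_right_iff _ _

end Square

section After

variable {S S'' T : Scheme.{u}} (π : S'' ⟶ S) (g' : T ⟶ S'') (gg : T ⟶ S) (wg : g' ≫ π = gg)
  [PreservesFiniteColimits (EtCoh.push π)]

/-- The higher direct images followed by an exact direct image. -/
abbrev afterDelta : LocCohLib.DeltaFun (EtCoh.Ab T) (EtCoh.Ab S) :=
  FormalPunctLib.compExact (EtCechInjLib.derDelta (EtCoh.push g')) (EtCoh.push π)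

theorem afterDelta_effaceable : (afterDelta π g').Effaceable :=
  FormalPunctLib.compExact_effaceable (derDelta_effaceable g') _

include wg in
/-- The comparison in degree zero. -/
def afterZero : (EtCechInjLib.derDelta (EtCoh.push gg)).F 0 ≅ (afterDelta π g').F 0 :=
  haveI := isIso_etPc g' π gg wg
  (EtCoh.push gg).rightDerivedZeroIsoSelf ≪≫ asIso (DescSecLib.etPc g' π gg wg) ≪≫
    Functor.isoWhiskerRight (EtCoh.push g').rightDerivedZeroIsoSelf.symm (EtCoh.push π)

/-- The comparison in every degree. -/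
def afterIso (q : ℕ) : (EtCechInjLib.derDelta (EtCoh.push gg)).F q ≅ (afterDelta π g').F q :=
  LocCohLib.DeltaFun.isoOfZero (derDelta_effaceable gg) (afterDelta_effaceable π g') (afterZero π g' gg wg) q

theorem comm_afterIso : EtBcQLib.Comm (T := EtCechInjLib.derDelta (EtCoh.push gg)) (T' := afterDelta π g')
    (fun q => (afterIso π g' gg wg q).hom) :=
  EtBcQLib.comm_isoOfZero (derDelta_effaceable gg) (afterDelta_effaceable π g') (afterZero π g' gg wg)

theorem toRDZ_afterIso (M : EtCoh.Ab T) :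
    (EtCoh.push gg).toRightDerivedZero.app M ≫ (afterIso π g' gg wg 0).hom.app M =
      (DescSecLib.etPc g' π gg wg).app M ≫ (EtCoh.push π).map ((EtCoh.push g').toRightDerivedZero.app M) := by
  show _ ≫ (EtCoh.push gg).rightDerivedZeroIsoSelf.hom.app M ≫ (DescSecLib.etPc g' π gg wg).app M ≫
    (EtCoh.push π).map ((EtCoh.push g').rightDerivedZeroIsoSelf.inv.app M) = _
  rw [Functor.rightDerivedZeroIsoSelf_inv_hom_id_app_assoc]
  rfl

end After

section AfterSquare

variable {X' S' X'' S'' T Y : Scheme.{u}} (π : S'' ⟶ S') (f' : X' ⟶ S') (π' : X'' ⟶ X') (f'' : X'' ⟶ S'')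
  (cπ : IsPullback f'' π' π f') (g' : T ⟶ S'') (h' : Y ⟶ X'') (e : Y ⟶ T) (c : IsPullback e h' g' f'')
  (gg : T ⟶ S') (wg : g' ≫ π = gg) (hh : Y ⟶ X') (wh : h' ≫ π' = hh) (c'' : IsPullback e hh gg f')
  [PreservesFiniteColimits (EtCoh.push π)] [PreservesFiniteColimits (EtCoh.push π')]

/-- The target. -/
abbrev afterTgt : LocCohLib.DeltaFun (EtCoh.Ab T) (EtCoh.Ab X') :=
  EtBcQLib.precompDelta (EtCoh.pull e) (fun {_} hT => EtRpushStalkLib.shortExact_pull e hT) (afterDelta π' h')

/-- Through the two squares. -/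
def afterInnerFam (q : ℕ) : (outSrc f' gg).F q ⟶ (afterTgt π' h' e).F q where
  app M := (EtCoh.pull f').map ((afterIso π g' gg wg q).hom.app M) ≫
    EtCoh.baseChange0 π f' π' f'' cπ.w ((EtCoh.Rpush g' q).obj M) ≫
      (EtCoh.push π').map (EtBC.bcQ g' f'' h' e c.w q M)
  naturality M M' u := by
    show (EtCoh.pull f').map ((EtCoh.Rpush gg q).map u) ≫ _ = _ ≫ _
    rw [← Functor.map_comp_assoc]
    erw [(afterIso π g' gg wg q).hom.naturality u]
    rw [Functor.map_comp_assoc]
    erw [reassoc_of% (bc0_natural π f' π' f'' cπ.w ((EtCoh.Rpush g' q).map u))]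
    simp only [Category.assoc]
    refine congrArg (fun z => (EtCoh.pull f').map ((afterIso π g' gg wg q).hom.app M) ≫
      EtCoh.baseChange0 π f' π' f'' cπ.w ((EtCoh.Rpush g' q).obj M) ≫ z) ?_
    show (EtCoh.push π').map _ ≫ (EtCoh.push π').map _ = _ ≫ (EtCoh.push π').map _
    rw [← Functor.map_comp, ← Functor.map_comp]
    exact congrArg _ ((EtBcQLib.bcNat g' f'' h' e c.w q).naturality u)

/-- Through the composite square. -/
def afterOuterFam (q : ℕ) : (outSrc f' gg).F q ⟶ (afterTgt π' h' e).F q where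
  app M := EtBC.bcQ gg f' hh e c''.w q M ≫ (afterIso π' h' hh wh q).hom.app ((EtCoh.pull e).obj M)
  naturality M M' u := by
    show (EtCoh.pull f').map ((EtCoh.Rpush gg q).map u) ≫ _ = _ ≫ _
    erw [reassoc_of% ((EtBcQLib.bcNat gg f' hh e c''.w q).naturality u)]
    simp only [Category.assoc]
    exact congrArg (EtBC.bcQ gg f' hh e c''.w q M ≫ ·)
      ((afterIso π' h' hh wh q).hom.naturality ((EtCoh.pull e).map u))

include cπ c c'' wg wh in
theorem afterFam_eq (q : ℕ) :
    afterInnerFam π f' π' f'' cπ g' h' e c gg wg q = afterOuterFam f' π' h' e gg hh wh c'' q := by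
  refine EtBcQLib.eq_of_zero (T := outSrc f' gg) (T' := afterTgt π' h' e)
    (FormalPunctLib.compExact_effaceable (derDelta_effaceable gg) _)
    (afterInnerFam π f' π' f'' cπ g' h' e c gg wg) (afterOuterFam f' π' h' e gg hh wh c'')
    (fun {U} hU n => ?_) (fun {U} hU n => ?_) (NatTrans.ext (funext fun M => ?_)) q
  · have h3 := EtRpushStalkLib.shortExact_pull e hU
    show (EtCoh.pull f').map ((EtCechInjLib.derDelta (EtCoh.push gg)).δ hU n) ≫ _ ≫ _ ≫ _ = (_ ≫ _ ≫ _) ≫ _
    rw [← Functor.map_comp_assoc]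
    erw [comm_afterIso π g' gg wg hU n]
    rw [Functor.map_comp_assoc]
    erw [reassoc_of% (bc0_natural π f' π' f'' cπ.w ((EtCechInjLib.derDelta (EtCoh.push g')).δ hU n))]
    simp only [Category.assoc]
    refine congrArg (fun z => (EtCoh.pull f').map ((afterIso π g' gg wg n).hom.app U.X₃) ≫
      EtCoh.baseChange0 π f' π' f'' cπ.w ((EtCoh.Rpush g' n).obj U.X₃) ≫ z) ?_
    show (EtCoh.push π').map _ ≫ (EtCoh.push π').map _ = (EtCoh.push π').map _ ≫ (EtCoh.push π').map _
    rw [← Functor.map_comp, ← Functor.map_comp]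
    exact congrArg _ (EtBcQLib.bcNat_delta g' f'' h' e c.w hU h3 n)
  · have h3 := EtRpushStalkLib.shortExact_pull e hU
    show (EtCoh.pull f').map ((EtCechInjLib.derDelta (EtCoh.push gg)).δ hU n) ≫ _ ≫ _ = (_ ≫ _) ≫ _
    erw [reassoc_of% (EtBcQLib.bcNat_delta gg f' hh e c''.w hU h3 n)]
    simp only [Category.assoc]
    exact congrArg (EtBC.bcQ gg f' hh e c''.w n U.X₃ ≫ ·) (comm_afterIso π' h' hh wh h3 n)
  · haveI : IsIso ((EtCoh.push gg).toRightDerivedZero.app M) := inferInstance
    refine (cancel_epi ((EtCoh.pull f').map ((EtCoh.push gg).toRightDerivedZero.app M))).1 ?_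
    show (EtCoh.pull f').map _ ≫ (EtCoh.pull f').map ((afterIso π g' gg wg 0).hom.app M) ≫ _ ≫ _ =
      (EtCoh.pull f').map _ ≫ EtBC.bcQ gg f' hh e c''.w 0 M ≫ _
    rw [← Functor.map_comp_assoc, toRDZ_afterIso, Functor.map_comp_assoc,
      reassoc_of% (EtBC.bcQ_zero_compat gg f' hh e c''.w M), toRDZ_afterIso π' h' hh wh,
      reassoc_of% (bc0_natural π f' π' f'' cπ.w ((EtCoh.push g').toRightDerivedZero.app M)),
      ← reassoc_of% (bc0_horiz π f' π' f'' cπ g' h' e c gg wg hh wh c'' M)]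
    refine congrArg (fun z => (EtCoh.pull f').map ((DescSecLib.etPc g' π gg wg).app M) ≫
      EtCoh.baseChange0 π f' π' f'' cπ.w ((EtCoh.push g').obj M) ≫ z) ?_
    rw [← Functor.map_comp, ← Functor.map_comp]
    exact congrArg _ (EtBC.bcQ_zero_compat g' f'' h' e c.w M)

include cπ c c'' wg wh in
/-- The second square's base change is bijective after direct image when the composite's is. -/
theorem isIso_push_of_comp (q : ℕ) (M : EtCoh.Ab T)
    (h0 : IsIso (EtCoh.baseChange0 π f' π' f'' cπ.w ((EtCoh.Rpush g' q).obj M)))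
    (hiso : IsIso (EtBC.bcQ gg f' hh e c''.w q M)) :
    IsIso ((EtCoh.push π').map (EtBC.bcQ g' f'' h' e c.w q M)) := by
  have E : (EtCoh.pull f').map ((afterIso π g' gg wg q).hom.app M) ≫
      EtCoh.baseChange0 π f' π' f'' cπ.w ((EtCoh.Rpush g' q).obj M) ≫
        (EtCoh.push π').map (EtBC.bcQ g' f'' h' e c.w q M) =
      EtBC.bcQ gg f' hh e c''.w q M ≫ (afterIso π' h' hh wh q).hom.app ((EtCoh.pull e).obj M) :=
    congrArg (fun z : (outSrc f' gg).F q ⟶ (afterTgt π' h' e).F q => z.app M)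
      (afterFam_eq π f' π' f'' cπ g' h' e c gg wg hh wh c'' q)
  haveI := h0
  haveI := hiso
  haveI : IsIso ((afterIso π g' gg wg q).hom.app M) := inferInstance
  haveI : IsIso ((afterIso π' h' hh wh q).hom.app ((EtCoh.pull e).obj M)) := inferInstance
  rw [← isIso_comp_left_iff (EtCoh.baseChange0 π f' π' f'' cπ.w ((EtCoh.Rpush g' q).obj M)),
    ← isIso_comp_left_iff ((EtCoh.pull f').map ((afterIso π g' gg wg q).hom.app M)), E]
  infer_instance

end AfterSquare

section Integral

variable {A B : Scheme.{u}} (f : A ⟶ B) [IsIntegralHom f]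

theorem shortExact_push_integral {U : ShortComplex (EtCoh.Ab A)} (hU : U.ShortExact) :
    (U.map (EtCoh.push f)).ShortExact := by
  haveI := Groth.Agent.S6634.result f
  haveI := hU.mono_f
  haveI := hU.epi_g
  haveI : PreservesFiniteLimits (EtCoh.push f) :=
    haveI : PreservesLimitsOfSize.{0, 0} (EtCoh.push f) := (EtCoh.pullPushAdj f).rightAdjoint_preservesLimits
    PreservesLimitsOfSize.preservesFiniteLimits _
  have hl : ∀ S : ShortComplex (EtCoh.Ab A), S.Exact ∧ Mono S.f →
      (S.map (EtCoh.push f)).Exact ∧ Mono ((EtCoh.push f).map S.f) :=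
    (Functor.preservesFiniteLimits_tfae (EtCoh.push f) |>.out 3 1).1 ‹PreservesFiniteLimits (EtCoh.push f)›
  exact
    { exact := (hl U ⟨hU.exact, hU.mono_f⟩).1
      mono_f := inferInstanceAs (Mono ((EtCoh.push f).map U.f))
      epi_g := inferInstanceAs (Epi ((EtCoh.push f).map U.g)) }

theorem preservesFiniteColimits_push_integral : PreservesFiniteColimits (EtCoh.push f) := by
  have h : PreservesFiniteLimits (EtCoh.push f) ∧ PreservesFiniteColimits (EtCoh.push f) :=
    (Functor.exact_tfae (EtCoh.push f) |>.out 0 3).1 (fun U hU => shortExact_push_integral f hU)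
  exact h.2

theorem isIso_of_push_integral {M N : EtCoh.Ab A} (u : M ⟶ N) [IsIso ((EtCoh.push f).map u)] : IsIso u := by
  haveI : ∀ F, Epi ((EtCoh.pullPushAdj f).counit.app F) :=
    EtSplitLib.epi_counit_of_propA (f := f) (Groth.Agent.S6628.result f)
  haveI : (EtCoh.push f).Faithful := (EtCoh.pullPushAdj f).faithful_R_of_epi_counit_app
  haveI : Mono u := (EtCoh.push f).mono_of_mono_map (f := u) inferInstance
  haveI : Epi u := (EtCoh.push f).epi_of_epi_map (f := u) inferInstance
  exact isIso_of_mono_of_epi u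

end Integral

end EtBcKilledLib
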